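import Groth.Prelude.Def_RedSub
import Groth.Prelude.Def_Par
import Mathlib.LinearAlgebra.RootSystem.Base

/-!
# Positive roots and words of reflections
-/

set_option autoImplicit false

open RootPairing Function

namespace Groth.Agent.RootWordLib

variable {idx M N : Type} [AddCommGroup M] [AddCommGroup N] (P : RootPairing idx ℤ M N) (b : P.Base)

instance isCrystallographic : P.IsCrystallographic := ⟨fun i j => ⟨P.pairing i j, rfl⟩⟩

theorem mem_posRoots {a : idx} : a ∈ RedSub.posRoots P b ↔ b.IsPos a := by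
  classical
  constructor
  · intro h
    obtain ⟨f, hf⟩ : ∃ f : idx → ℕ, P.root a = ∑ j ∈ b.support, f j • P.root j := by
      refine AddSubmonoid.closure_induction (motive := fun x _ => ∃ f : idx → ℕ, x = ∑ j ∈ b.support, f j • P.root j)
        ?_ ⟨0, by simp⟩ ?_ h
      · rintro x ⟨j, hj, rfl⟩
        refine ⟨Pi.single j 1, ?_⟩
        rw [Finset.sum_eq_single_of_mem j hj (by simp_all)]
        simp
      · rintro x y - - ⟨f, rfl⟩ ⟨g, rfl⟩
        exact ⟨f + g, by simp [add_smul, Finset.sum_add_distrib]⟩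
    rw [RootPairing.Base.isPos_iff', RootPairing.Base.height_eq_sum (f := fun j => (f j : ℤ)) (by simpa using hf)]
    exact Finset.sum_nonneg fun j _ => Int.natCast_nonneg _
  · intro h
    obtain ⟨f, hf₀, hf⟩ := b.exists_root_eq_sum_nat_or_neg a
    show P.root a ∈ AddSubmonoid.closure _
    rcases hf with hf | hf
    · rw [hf]
      exact sum_mem fun j hj => nsmul_mem (AddSubmonoid.subset_closure (Set.mem_image_of_mem P.root hj)) _
    · exfalso
      rw [RootPairing.Base.isPos_iff,
        RootPairing.Base.height_eq_sum (f := fun j => -(f j : ℤ)) (by rw [hf]; simp)] at h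
      have := Finset.sum_nonpos (s := b.support) (f := fun j => -(f j : ℤ)) fun j _ => by simp
      omega

theorem mem_negRoots {a : idx} : a ∈ RedSub.negRoots P b ↔ ¬ b.IsPos a := by
  letI := P.indexNeg
  rw [← RootPairing.Base.IsPos.neg_iff_not, ← mem_posRoots]
  show -P.root a ∈ AddSubmonoid.closure _ ↔ P.root (-a) ∈ AddSubmonoid.closure _
  simp

theorem reflectionPerm_reflectionPerm (a d : idx) :
    P.reflectionPerm (P.reflectionPerm a d) = P.reflectionPerm a * P.reflectionPerm d * P.reflectionPerm a := by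
  refine Equiv.ext fun x => P.root.injective ?_
  simp only [Equiv.Perm.mul_apply, RootPairing.root_reflectionPerm, RootPairing.reflection_reflectionPerm]
  rfl

/-- Conjugation of reflections by a word. -/
theorem reflectionPerm_wordPerm (l : List idx) (a : idx) :
    P.reflectionPerm (RedSub.wordPerm P l a) = RedSub.wordPerm P l * P.reflectionPerm a * (RedSub.wordPerm P l)⁻¹ := by
  induction l with
  | nil => simp [RedSub.wordPerm]
  | cons x l ih =>
    have hx : RedSub.wordPerm P (x :: l) = P.reflectionPerm x * RedSub.wordPerm P l := by simp [RedSub.wordPerm]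
    rw [hx, Equiv.Perm.mul_apply, reflectionPerm_reflectionPerm, ih, mul_inv_rev, RootPairing.reflectionPerm_inv]
    simp only [mul_assoc]

/-- A word acts linearly. -/
theorem exists_linear (l : List idx) : ∃ L : M →ₗ[ℤ] M, ∀ a, P.root (RedSub.wordPerm P l a) = L (P.root a) := by
  induction l with
  | nil => exact ⟨LinearMap.id, fun a => by simp [RedSub.wordPerm]⟩
  | cons x l ih =>
    obtain ⟨L, hL⟩ := ih
    refine ⟨(P.reflection x).toLinearMap ∘ₗ L, fun a => ?_⟩
    have hx : RedSub.wordPerm P (x :: l) = P.reflectionPerm x * RedSub.wordPerm P l := by simp [RedSub.wordPerm]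
    rw [hx, Equiv.Perm.mul_apply, RootPairing.root_reflectionPerm, hL]
    rfl

variable [Finite idx]

/-- If `w β > 0` and `β > 0`, then `w s_β` inverts more positive roots than `w`. -/
theorem ncard_lt (l : List idx) (β : idx) (hβ : b.IsPos β) (hwβ : b.IsPos (RedSub.wordPerm P l β)) :
    Set.ncard {a : idx | b.IsPos a ∧ ¬ b.IsPos (RedSub.wordPerm P l a)} <
      Set.ncard {a : idx | b.IsPos a ∧ ¬ b.IsPos ((RedSub.wordPerm P l * P.reflectionPerm β) a)} := by
  classical
  set w := RedSub.wordPerm P l with hw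
  set s := P.reflectionPerm β with hs
  have hss : ∀ a, s (s a) = a := fun a => P.reflectionPerm_self β a
  obtain ⟨L, hL⟩ := exists_linear P l
  have hneg : ∀ γ, b.IsPos γ → ¬ b.IsPos (s γ) → ¬ b.IsPos (w γ) → ¬ b.IsPos (w (s γ)) := by
    intro γ hγ hsγ hwγ
    set n : ℤ := -P.pairing γ β with hn
    have h1 : P.root (s γ) = P.root γ + n • P.root β := by
      rw [hn, neg_smul, ← sub_eq_add_neg, hs, RootPairing.root_reflectionPerm, RootPairing.reflection_apply_root]
    have h2 : P.root (w (s γ)) = P.root (w γ) + n • P.root (w β) := by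
      rw [hw, hL, h1, map_add, map_zsmul, ← hL, ← hL]
    rw [RootPairing.Base.isPos_iff] at hγ hsγ hwγ hβ hwβ ⊢
    rw [b.height_add_zsmul h1, smul_eq_mul] at hsγ
    rw [b.height_add_zsmul h2, smul_eq_mul]
    have hn0 : n < 0 := by nlinarith
    have := b.height_ne_zero (w γ)
    nlinarith
  have hsβ : ¬ b.IsPos (s β) := by
    rw [hs, RootPairing.Base.isPos_iff, show P.reflectionPerm β β = (letI := P.indexNeg; -β) from rfl,
      b.height_reflectionPerm_self]
    rw [RootPairing.Base.isPos_iff] at hβ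
    omega
  have hwsβ : ¬ b.IsPos (w (s β)) := by
    have h2 : P.root (w (s β)) = P.root (w β) + (-2 : ℤ) • P.root (w β) := by
      rw [hw, hL, hs, RootPairing.root_reflectionPerm, RootPairing.reflection_apply_self, map_neg, ← hL]
      module
    rw [RootPairing.Base.isPos_iff] at hwβ ⊢
    rw [b.height_add_zsmul h2, smul_eq_mul]
    omega
  let φ : idx → idx := fun γ => if b.IsPos (s γ) then s γ else γ
  set I := {a : idx | b.IsPos a ∧ ¬ b.IsPos (w a)}
  have hinj : Set.InjOn φ I := by
    intro x hx y hy h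
    simp only [φ] at h
    split_ifs at h with h1 h2 h2
    · exact s.injective h
    · exact absurd (h ▸ (hss x).symm ▸ hx.1 : b.IsPos (s y)) h2
    · exact absurd (h ▸ (hss y).symm ▸ hy.1 : b.IsPos (s x)) h1
    · exact h
  rw [← hinj.ncard_image]
  refine Set.ncard_lt_ncard ⟨?_, fun hsub => ?_⟩ (Set.toFinite _)
  · rintro _ ⟨γ, ⟨hγ, hwγ⟩, rfl⟩
    simp only [φ, Equiv.Perm.mul_apply, Set.mem_ofPred_eq]
    split_ifs with h1
    · rw [hss]
      exact ⟨h1, hwγ⟩
    · exact ⟨hγ, hneg γ hγ h1 hwγ⟩
  · obtain ⟨γ, ⟨hγ, hwγ⟩, h⟩ := hsub (show β ∈ {a : idx | b.IsPos a ∧ ¬ b.IsPos ((w * s) a)} from ⟨hβ, hwsβ⟩)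
    simp only [φ] at h
    split_ifs at h with h1
    · rw [← h, hss] at hsβ
      exact hsβ hγ
    · exact hwγ (h ▸ hwβ)

end Groth.Agent.RootWordLib
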