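import Groth.Agent.RootWordLib.Basic

/-!
# A closed set of roots meeting every pair of opposite roots contains a system of positive roots
-/

set_option autoImplicit false

open RootPairing Function

namespace Groth.Agent.RootWordLib

variable {idx M N : Type} [AddCommGroup M] [AddCommGroup N] (P : RootPairing idx ℤ M N) (b : P.Base)

/-- The base reflected in a root. -/
noncomputable def reflBase (a : idx) : P.Base where
  support := b.support.map (P.reflectionPerm a).toEmbedding
  linearIndepOn_root := by
    rw [Finset.coe_map]
    have h := b.linearIndepOn_root.map' (P.reflection a).toLinearMap (P.reflection a).ker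
    refine (linearIndepOn_iff_image (P.root.injective.injOn)).2 ?_
    rw [← Set.image_comp]
    have he : (P.root ∘ (P.reflectionPerm a).toEmbedding : idx → M) = (P.reflection a) ∘ P.root := by
      funext j; exact P.root_reflectionPerm a j
    rw [he]
    exact LinearIndepOn.id_image h
  linearIndepOn_coroot := by
    rw [Finset.coe_map]
    have h := b.linearIndepOn_coroot.map' (P.coreflection a).toLinearMap (P.coreflection a).ker
    refine (linearIndepOn_iff_image (P.coroot.injective.injOn)).2 ?_
    rw [← Set.image_comp]
    have he : (P.coroot ∘ (P.reflectionPerm a).toEmbedding : idx → N) = (P.coreflection a) ∘ P.coroot := by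
      funext j; exact P.coroot_reflectionPerm a j
    rw [he]
    exact LinearIndepOn.id_image h
  root_mem_or_neg_mem i := by
    have key : ∀ x ∈ AddSubmonoid.closure (P.root '' (b.support : Set idx)),
        P.reflection a x ∈ AddSubmonoid.closure (P.root '' (b.support.map (P.reflectionPerm a).toEmbedding : Set idx)) := by
      intro x hx
      induction hx using AddSubmonoid.closure_induction with
      | mem x hx =>
        obtain ⟨j, hj, rfl⟩ := hx
        exact AddSubmonoid.subset_closure ⟨P.reflectionPerm a j, by simpa using hj, P.root_reflectionPerm a j⟩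
      | zero => simp
      | add x y _ _ hx hy => rw [map_add]; exact add_mem hx hy
    have hr : P.reflection a (P.root (P.reflectionPerm a i)) = P.root i := by
      rw [← P.root_reflectionPerm, P.reflectionPerm_self]
    rcases b.root_mem_or_neg_mem (P.reflectionPerm a i) with h | h
    · exact Or.inl (hr ▸ key _ h)
    · exact Or.inr (by have := key _ h; rwa [map_neg, hr] at this)
  coroot_mem_or_neg_mem i := by
    have key : ∀ x ∈ AddSubmonoid.closure (P.coroot '' (b.support : Set idx)),
        P.coreflection a x ∈ AddSubmonoid.closure (P.coroot '' (b.support.map (P.reflectionPerm a).toEmbedding : Set idx)) := by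
      intro x hx
      induction hx using AddSubmonoid.closure_induction with
      | mem x hx =>
        obtain ⟨j, hj, rfl⟩ := hx
        exact AddSubmonoid.subset_closure ⟨P.reflectionPerm a j, by simpa using hj, P.coroot_reflectionPerm a j⟩
      | zero => simp
      | add x y _ _ hx hy => rw [map_add]; exact add_mem hx hy
    have hr : P.coreflection a (P.coroot (P.reflectionPerm a i)) = P.coroot i := by
      rw [← P.coroot_reflectionPerm, P.reflectionPerm_self]
    rcases b.coroot_mem_or_neg_mem (P.reflectionPerm a i) with h | h
    · exact Or.inl (hr ▸ key _ h)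
    · exact Or.inr (by have := key _ h; rwa [map_neg, hr] at this)

theorem mem_posRoots_reflBase {a i : idx} (h : i ∈ RedSub.posRoots P (reflBase P b a)) :
    P.reflectionPerm a i ∈ RedSub.posRoots P b := by
  show P.root _ ∈ AddSubmonoid.closure _
  have key : ∀ x ∈ AddSubmonoid.closure (P.root '' ((reflBase P b a).support : Set idx)),
      P.reflection a x ∈ AddSubmonoid.closure (P.root '' (b.support : Set idx)) := by
    intro x hx
    induction hx using AddSubmonoid.closure_induction with
    | mem x hx =>
      obtain ⟨j, hj, rfl⟩ := hx
      obtain ⟨j, hj', rfl⟩ := Finset.mem_map.1 (show j ∈ b.support.map _ from hj)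
      refine AddSubmonoid.subset_closure ⟨j, hj', ?_⟩
      show P.root j = P.reflection a (P.root (P.reflectionPerm a j))
      rw [← P.root_reflectionPerm, P.reflectionPerm_self]
    | zero => simp
    | add x y _ _ hx hy => rw [map_add]; exact add_mem hx hy
  rw [P.root_reflectionPerm]
  exact key _ h

/-- The reflection in a simple root keeps a positive root positive unless it is a multiple of it. -/
theorem root_eq_smul_of_not_isPos {α i : idx} (hα : α ∈ b.support) (hi : b.IsPos i)
    (h : ¬ b.IsPos (P.reflectionPerm α i)) : ∃ n : ℤ, 0 < n ∧ P.root i = n • P.root α := by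
  classical
  obtain ⟨f, hf₀, hf⟩ := b.exists_root_eq_sum_nat_or_neg i
  obtain ⟨g, hg₀, hg⟩ := b.exists_root_eq_sum_nat_or_neg (P.reflectionPerm α i)
  have hf' : P.root i = ∑ j ∈ b.support, f j • P.root j := by
    refine hf.resolve_right fun e => ?_
    rw [RootPairing.Base.isPos_iff,
      RootPairing.Base.height_eq_sum (f := fun j => -(f j : ℤ)) (by rw [e]; simp)] at hi
    have := Finset.sum_nonpos (s := b.support) (f := fun j => -(f j : ℤ)) fun j _ => by simp
    omega
  have hg' : P.root (P.reflectionPerm α i) = -∑ j ∈ b.support, g j • P.root j := by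
    refine hg.resolve_left fun e => h ?_
    rw [RootPairing.Base.isPos_iff', RootPairing.Base.height_eq_sum (f := fun j => (g j : ℤ)) (by simpa using e)]
    exact Finset.sum_nonneg fun j _ => Int.natCast_nonneg _
  set c := P.pairing i α with hc
  have e1 : P.root (P.reflectionPerm α i) = P.root i - c • P.root α := by
    rw [P.root_reflectionPerm, P.reflection_apply_root]
  have e2 : ∑ j ∈ b.support, ((f j : ℤ) + (g j : ℤ) - (if j = α then c else 0)) • P.root j = 0 := by
    simp only [sub_smul, add_smul, Finset.sum_sub_distrib, Finset.sum_add_distrib, natCast_zsmul, ← hf']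
    simp only [ite_smul, zero_smul, Finset.sum_ite_eq', if_pos hα]
    have e3 : ∑ j ∈ b.support, g j • P.root j = -P.root (P.reflectionPerm α i) := by rw [hg', neg_neg]
    rw [e3, e1]
    abel
  have hz := linearIndepOn_finset_iff.1 b.linearIndepOn_root _ e2
  have hfj : ∀ j ∈ b.support, j ≠ α → f j = 0 := fun j hj hne => by
    have := hz j hj
    simp only [hne, if_false] at this
    omega
  refine ⟨(f α : ℤ), ?_, ?_⟩
  · by_contra hlt
    refine P.ne_zero i ?_
    rw [hf', Finset.sum_eq_single_of_mem α hα (fun j hj hne => by simp [hfj j hj hne]),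
      show f α = 0 by omega, zero_smul]
  · rw [hf', Finset.sum_eq_single_of_mem α hα (fun j hj hne => by simp [hfj j hj hne]), natCast_zsmul]

variable [Finite idx]

include b in
/-- A closed set of roots containing a root of each pair of opposite ones contains a positive system. -/
theorem exists_base_posRoots_subset (S : Set idx)
    (hS : ∀ x y z : idx, x ∈ S → y ∈ S → P.root x + P.root y = P.root z → z ∈ S)
    (htot : ∀ x : idx, x ∈ S ∨ P.reflectionPerm x x ∈ S) :
    ∃ b' : P.Base, RedSub.posRoots P b' ⊆ S := by
  classical
  letI := P.indexNeg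
  haveI : Nonempty P.Base := ⟨b⟩
  let c : P.Base → ℕ := fun b' => Set.ncard (RedSub.posRoots P b' ∩ S)
  obtain ⟨b', -, hmax⟩ : ∃ b' : P.Base, True ∧ ∀ b'', c b'' ≤ c b' := by
    obtain ⟨n, ⟨b', rfl⟩, hn⟩ := ((Set.finite_Iic (Nat.card idx)).subset
      (Set.range_subset_iff.2 fun b' => Set.mem_Iic.2 (Set.ncard_le_card _))).exists_maximalFor
        id (Set.range c) (Set.range_nonempty c)
    exact ⟨b', trivial, fun b'' => le_of_not_gt fun hlt => hlt.not_ge (hn ⟨b'', rfl⟩ hlt.le)⟩
  have hsimple : ∀ α ∈ b'.support, α ∈ S := by
    intro α hα
    by_contra hαS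
    set β := P.reflectionPerm α α with hβ
    have hβS : β ∈ S := (htot α).resolve_left hαS
    have hβroot : P.root β = -P.root α := by rw [hβ, P.root_reflectionPerm, P.reflection_apply_self]
    -- positive multiples of `α` are not in `S`
    have hmult : ∀ n : ℕ, 0 < n → ∀ i, P.root i = (n : ℤ) • P.root α → i ∈ S → False := by
      intro n hn i hi hiS
      have hαβ : (n : ℤ) = 1 ∨ (n : ℤ) = 2 := by
        obtain ⟨f, hf⟩ : ∃ m : ℤ, (n : ℤ) * m = 2 := by
          refine ⟨P.toLinearMap (P.root α) (P.coroot i), ?_⟩
          rw [← smul_eq_mul, ← LinearMap.smul_apply, ← map_smul, ← hi]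
          exact P.root_coroot_two i
        have hle : (n : ℤ) ≤ 2 := Int.le_of_dvd two_pos ⟨f, hf.symm⟩
        omega
      rcases hαβ with h1 | h2
      · rw [h1, one_smul] at hi
        exact hαS (P.root.injective hi ▸ hiS)
      · exact hαS (hS i β α hiS hβS (by rw [hi, hβroot, h2]; module))
    have hlt : c b' < c (reflBase P b' α) := by
      have hsub : insert β (RedSub.posRoots P b' ∩ S) ⊆ RedSub.posRoots P (reflBase P b' α) ∩ S := by
        rintro i (rfl | ⟨hi, hiS⟩)
        · refine ⟨AddSubmonoid.subset_closure ⟨β, ?_, rfl⟩, hβS⟩
          exact Finset.mem_map.2 ⟨α, hα, rfl⟩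
        · refine ⟨?_, hiS⟩
          by_contra hneg
          rw [mem_posRoots] at hi hneg
          have hpos : ¬ b'.IsPos (P.reflectionPerm α i) := by
            intro hp
            refine hneg ?_
            rw [← mem_posRoots] at hp ⊢
            show P.root i ∈ AddSubmonoid.closure _
            have key : ∀ x ∈ AddSubmonoid.closure (P.root '' (b'.support : Set idx)),
                P.reflection α x ∈ AddSubmonoid.closure (P.root '' ((reflBase P b' α).support : Set idx)) := by
              intro x hx
              induction hx using AddSubmonoid.closure_induction with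
              | mem x hx =>
                obtain ⟨j, hj, rfl⟩ := hx
                exact AddSubmonoid.subset_closure
                  ⟨P.reflectionPerm α j, Finset.mem_map.2 ⟨j, hj, rfl⟩, P.root_reflectionPerm α j⟩
              | zero => simp
              | add x y _ _ hx hy => rw [map_add]; exact add_mem hx hy
            have := key _ hp
            rwa [← P.root_reflectionPerm, P.reflectionPerm_self] at this
          obtain ⟨n, hn, hn'⟩ := root_eq_smul_of_not_isPos P b' hα hi hpos
          lift n to ℕ using hn.le
          exact hmult n (by exact_mod_cast hn) i hn' hiS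
      refine Nat.lt_of_lt_of_le ?_ (Set.ncard_le_ncard hsub (Set.toFinite _))
      rw [Set.ncard_insert_of_notMem ?_ (Set.toFinite _)]
      · exact Nat.lt_succ_self _
      · rintro ⟨hp, -⟩
        rw [mem_posRoots, RootPairing.Base.isPos_iff, hβ, show P.reflectionPerm α α = -α from rfl,
          b'.height_reflectionPerm_self, RootPairing.Base.height_one_of_mem_support hα] at hp
        omega
    exact absurd (hmax _) (not_le.2 hlt)
  refine ⟨b', fun i hi => ?_⟩
  rw [mem_posRoots] at hi
  exact hi.induction_on_add hsimple fun x y z he hx hy => hS x y z hx (hsimple y hy) he.symm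

end Groth.Agent.RootWordLib
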